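import Mathlib
import Cfsg.Agent.Prune
set_option linter.all false
prune_inst 0x7f00000000000000000000000000000000000000000000000000000000000000000000000000000000000000000000000000000000000000000000000000000000000000000000000000000000000000003fffffffffffffffffffffffffffbeffbdffffffff
open scoped Cfsg.Agent.FastGrp

/-!
# Block embeddings `SL_w(F) → SL_n(F)` along an injection of the index sets
-/

set_option autoImplicit false
set_option linter.unusedSectionVars false

namespace Cfsg.Agent.H514.DP

open Matrix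

variable {F : Type*} [CommRing F] {ι κ μ : Type*} [Fintype ι] [DecidableEq ι] [Fintype κ] [DecidableEq κ] [Fintype μ]
  [DecidableEq μ]

open scoped Classical in
/-- the equivalence splitting off the range of an injection -/
noncomputable def sumEquiv (f : κ ↪ ι) : κ ⊕ {x : ι // x ∉ Set.range f} ≃ ι :=
  ((Equiv.ofInjective f f.injective).sumCongr (Equiv.refl _)).trans (Equiv.Set.sumCompl (Set.range f))

theorem sumEquiv_inl (f : κ ↪ ι) (i : κ) : sumEquiv f (Sum.inl i) = f i := rfl

theorem sumEquiv_inr (f : κ ↪ ι) (x : {x : ι // x ∉ Set.range f}) : sumEquiv f (Sum.inr x) = x := rfl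

theorem sumEquiv_symm (f : κ ↪ ι) (i : κ) : (sumEquiv f).symm (f i) = Sum.inl i := by
  rw [Equiv.symm_apply_eq, sumEquiv_inl]

theorem sumEquiv_symm_of_notMem (f : κ ↪ ι) {x : ι} (hx : x ∉ Set.range f) : (sumEquiv f).symm x = Sum.inr ⟨x, hx⟩ := by
  rw [Equiv.symm_apply_eq, sumEquiv_inr]

open scoped Classical in
/-- the block matrix -/
noncomputable def embM (f : κ ↪ ι) (M : Matrix κ κ F) : Matrix ι ι F :=
  reindex (sumEquiv f) (sumEquiv f) (fromBlocks M 0 0 1)

theorem embM_apply (f : κ ↪ ι) (M : Matrix κ κ F) (i j : κ) : embM f M (f i) (f j) = M i j := by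
  unfold embM
  rw [reindex_apply, submatrix_apply, sumEquiv_symm, sumEquiv_symm, fromBlocks_apply₁₁]

theorem embM_left (f : κ ↪ ι) (M : Matrix κ κ F) {x : ι} (hx : x ∉ Set.range f) (y : ι) :
    embM f M x y = (1 : Matrix ι ι F) x y := by
  classical
  unfold embM
  rw [reindex_apply, submatrix_apply, sumEquiv_symm_of_notMem f hx]
  by_cases hy : y ∈ Set.range f
  · obtain ⟨j, rfl⟩ := hy
    rw [sumEquiv_symm, fromBlocks_apply₂₁, one_apply_ne]
    · rfl
    · rintro rfl
      exact hx ⟨j, rfl⟩
  · rw [sumEquiv_symm_of_notMem f hy, fromBlocks_apply₂₂, one_apply, one_apply]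
    simp only [Subtype.mk.injEq]

theorem embM_right (f : κ ↪ ι) (M : Matrix κ κ F) (x : ι) {y : ι} (hy : y ∉ Set.range f) :
    embM f M x y = (1 : Matrix ι ι F) x y := by
  classical
  by_cases hx : x ∈ Set.range f
  · obtain ⟨i, rfl⟩ := hx
    unfold embM
    rw [reindex_apply, submatrix_apply, sumEquiv_symm, sumEquiv_symm_of_notMem f hy, fromBlocks_apply₁₂, one_apply_ne]
    · rfl
    · rintro rfl
      exact hy ⟨i, rfl⟩
  · exact embM_left f M hx y

theorem embM_mul (f : κ ↪ ι) (M N : Matrix κ κ F) : embM f (M * N) = embM f M * embM f N := by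
  classical
  unfold embM
  rw [reindex_apply, reindex_apply, reindex_apply, submatrix_mul_equiv, fromBlocks_multiply]
  simp

theorem embM_one (f : κ ↪ ι) : embM f (1 : Matrix κ κ F) = 1 := by
  classical
  unfold embM
  rw [fromBlocks_one, reindex_apply, submatrix_one_equiv]

theorem det_embM (f : κ ↪ ι) (M : Matrix κ κ F) : (embM f M).det = M.det := by
  classical
  unfold embM
  rw [reindex_apply, det_submatrix_equiv_self, det_fromBlocks_zero₂₁, det_one, mul_one]

/-- a matrix is `embM f M` if it has the right entries -/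
theorem eq_embM (f : κ ↪ ι) (M : Matrix κ κ F) (A : Matrix ι ι F) (h1 : ∀ i j, A (f i) (f j) = M i j)
    (h2 : ∀ x y, x ∉ Set.range f → A x y = (1 : Matrix ι ι F) x y)
    (h3 : ∀ x y, y ∉ Set.range f → A x y = (1 : Matrix ι ι F) x y) : A = embM f M := by
  ext x y
  by_cases hx : x ∈ Set.range f
  · by_cases hy : y ∈ Set.range f
    · obtain ⟨i, rfl⟩ := hx
      obtain ⟨j, rfl⟩ := hy
      rw [h1, embM_apply]
    · rw [h3 x y hy, embM_right f M x hy]
  · rw [h2 x y hx, embM_left f M hx]

theorem embM_trans (f : κ ↪ ι) (g : μ ↪ κ) (M : Matrix μ μ F) : embM f (embM g M) = embM (g.trans f) M := by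
  refine eq_embM _ _ _ (fun i j => ?_) (fun x y hx => ?_) (fun x y hy => ?_)
  · rw [Function.Embedding.trans_apply, Function.Embedding.trans_apply, embM_apply, embM_apply]
  · by_cases hx' : x ∈ Set.range f
    · obtain ⟨i, rfl⟩ := hx'
      have hi : i ∉ Set.range g := by
        rintro ⟨k, rfl⟩
        exact hx ⟨k, rfl⟩
      by_cases hy' : y ∈ Set.range f
      · obtain ⟨j, rfl⟩ := hy'
        rw [embM_apply, embM_left g M hi, one_apply, one_apply]
        simp only [f.injective.eq_iff]
      · rw [embM_right f _ _ hy']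
    · rw [embM_left f _ hx']
  · by_cases hy' : y ∈ Set.range f
    · obtain ⟨j, rfl⟩ := hy'
      have hj : j ∉ Set.range g := by
        rintro ⟨k, rfl⟩
        exact hy ⟨k, rfl⟩
      by_cases hx' : x ∈ Set.range f
      · obtain ⟨i, rfl⟩ := hx'
        rw [embM_apply, embM_right g M _ hj, one_apply, one_apply]
        simp only [f.injective.eq_iff]
      · rw [embM_left f _ hx']
    · rw [embM_right f _ _ hy']

/-- the homomorphism -/
noncomputable def emb (f : κ ↪ ι) : SpecialLinearGroup κ F →* SpecialLinearGroup ι F where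
  toFun M := ⟨embM f M.1, by rw [det_embM, M.2]⟩
  map_one' := Subtype.ext (embM_one f)
  map_mul' M N := Subtype.ext (embM_mul f M.1 N.1)

theorem emb_coe (f : κ ↪ ι) (M : SpecialLinearGroup κ F) : (emb f M).1 = embM f M.1 := rfl

theorem emb_trans (f : κ ↪ ι) (g : μ ↪ κ) (M : SpecialLinearGroup μ F) : emb f (emb g M) = emb (g.trans f) M :=
  Subtype.ext (embM_trans f g M.1)

theorem embM_mul_disj (f : κ ↪ ι) (g : μ ↪ ι) (h : ∀ i j, f i ≠ g j) (M : Matrix κ κ F) (N : Matrix μ μ F) (x y : ι) :
    (embM f M * embM g N) x y =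
      if x ∈ Set.range f then embM f M x y else embM g N x y := by
  classical
  rw [mul_apply]
  split_ifs with hx
  · by_cases hy : y ∈ Set.range g
    · obtain ⟨j, rfl⟩ := hy
      obtain ⟨i, rfl⟩ := hx
      have hnr : g j ∉ Set.range f := fun ⟨k, hk⟩ => h k j hk
      rw [embM_right f M _ hnr, one_apply_ne (h i j)]
      refine Finset.sum_eq_zero fun k _ => ?_
      by_cases hk : k ∈ Set.range f
      · have hk2 : k ∉ Set.range g := by
          rintro ⟨l, rfl⟩
          obtain ⟨l', hl'⟩ := hk
          exact h l' l hl'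
        rw [embM_left g N hk2, one_apply_ne, mul_zero]
        rintro rfl
        exact hk2 ⟨j, rfl⟩
      · rw [embM_right f M _ hk, one_apply_ne, zero_mul]
        rintro rfl
        exact hk ⟨i, rfl⟩
    · rw [Finset.sum_eq_single y]
      · rw [embM_right g N _ hy, one_apply_eq, mul_one]
      · intro k _ hk
        rw [embM_right g N _ hy, one_apply_ne hk, mul_zero]
      · intro hh
        exact absurd (Finset.mem_univ y) hh
  · rw [Finset.sum_eq_single x]
    · rw [embM_left f M hx, one_apply_eq, one_mul]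
    · intro k _ hk
      rw [embM_left f M hx, one_apply_ne (Ne.symm hk), zero_mul]
    · intro hh
      exact absurd (Finset.mem_univ x) hh

/-- blocks on disjoint sets of indices commute -/
theorem emb_commute (f : κ ↪ ι) (g : μ ↪ ι) (h : ∀ i j, f i ≠ g j) (M : SpecialLinearGroup κ F)
    (N : SpecialLinearGroup μ F) : Commute (emb f M) (emb g N) := by
  apply Subtype.ext
  show embM f M.1 * embM g N.1 = embM g N.1 * embM f M.1
  ext x y
  rw [embM_mul_disj f g h, embM_mul_disj g f (fun i j => (h j i).symm)]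
  by_cases hx : x ∈ Set.range f
  · rw [if_pos hx, if_neg]
    rintro ⟨j, rfl⟩
    obtain ⟨i, hi⟩ := hx
    exact h i j hi
  · rw [if_neg hx]
    by_cases hx2 : x ∈ Set.range g
    · rw [if_pos hx2]
    · rw [if_neg hx2, embM_left g _ hx2, embM_left f _ hx]

end Cfsg.Agent.H514.DP

private theorem dce_505a81f7d348 : _root_.True := by
  try have : _root_.True := by simp only [_root_.Cfsg.Agent.H514.DP.embM.congr_simp]
  exact _root_.True.intro
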