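import Mathlib
import Cfsg.Agent.H990.TC.Univ
import Cfsg.Agent.H51.Tools
import Cfsg.Agent.S2493
import Cfsg.Agent.S2116
import Cfsg.Agent.S0892
import Cfsg.Agent.S2444
import Cfsg.Agent.S2445
import Cfsg.Agent.H60.MultA
import Cfsg.Agent.H62.SpMult
import Cfsg.Agent.S0252
import Cfsg.Agent.S0254
import Cfsg.Agent.S0255
import Cfsg.Agent.S0256
import Cfsg.Agent.H253.TwoComm.Cent
import Cfsg.Agent.S2392
import Cfsg.Agent.S0249
import Cfsg.Agent.H514.DP.OrdElt
import Cfsg.Agent.S2332
import Cfsg.Agent.S0248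
import Cfsg.Agent.S0242
import Cfsg.Agent.FastGrp
import Cfsg.Agent.Prune
set_option linter.all false

section
prune_inst 0x7f00000000000000000000000000000000000000000000000000000000000000000000000000000000000000000000000000000000000000000000000000000000000000000000000000000000000000003fffffffffffffffffffffffffffbeffbdffffffff

-- part: H990/TC/PDLin
section
set_option linter.all false
open scoped Cfsg.Agent.FastGrp

-- part: H990/TC/Coprime
section
/-!
# Two commutators: central commutators and coprime reduction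

* `comm_zpow_left`: `[a, b] = z` central implies `[a ^ k, b] = z ^ k`.
* `comm_of_pair`: central `p`-elements of a perfect group over a pair of commuting elements generating a subgroup of
  index prime to `p` are commutators.
* `two_of_quot`: `L / N` with all elements commutators, and all elements of the central subgroup `N` commutators.
* `comm_lift_coprime`: a commutator of order prime to the kernel lifts.
-/

set_option autoImplicit false
set_option linter.unusedVariables false

namespace Cfsg.Agent.H990.TC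

open Subgroup Cfsg.Agent.H51.Mult Cfsg.Agent.H51.Crit Cfsg.Agent.H68.Bounds
open scoped commutatorElement

universe u v w

section central

variable {L : Type u} [Group L]

theorem comm_zpow_left {a b z : L} (hz : ∀ g, z * g = g * z) (h : ⁅a, b⁆ = z) (k : ℤ) : ⁅a ^ k, b⁆ = z ^ k := by
  have h1 := zpow_swap hz (mul_comm_of_comm.1 h) k 1
  rw [zpow_one, mul_one] at h1
  exact mul_comm_of_comm.2 h1

/-- If all elements of a quotient by a central subgroup `N` and all elements of `N` are commutators: `Two`. -/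
theorem two_of_quot {L' : Type v} [Group L'] {q : L →* L'} (hq : Function.Surjective q) (hc : q.ker ≤ center L)
    (h1 : One L') (h2 : ∀ z ∈ q.ker, ∃ a b : L, ⁅a, b⁆ = z) : Two L := by
  intro g
  obtain ⟨a', b', hab⟩ := h1 (q g)
  obtain ⟨a, rfl⟩ := hq a'
  obtain ⟨b, rfl⟩ := hq b'
  have h3 : (a * b * a⁻¹ * b⁻¹)⁻¹ * g ∈ q.ker := by
    rw [MonoidHom.mem_ker, map_mul, ← hab]
    simp only [map_mul, map_inv]
    group
  obtain ⟨c, d, hcd⟩ := h2 _ h3
  refine ⟨a, b, c, d, ?_⟩
  rw [← commutatorElement_def c d, hcd]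
  group

end central

section pair

variable {L : Type u} {X : Type v} [Group L] [Group X] {π : L →* X}

theorem pow_index_mem [Finite L] (hL : commutator L = ⊤) (H : Subgroup L) {z : L} (hz : z ∈ center L) (hzH : z ∈ H) :
    z ^ H.index ∈ ⁅H, H⁆ := by
  have h1 := Cfsg.Agent.Transfer.CentralTransfer.map_pow_index_eq_one_of_perfect hL (H := H) (Abelianization.of (G := H)) ⟨z, hzH⟩ hz
  rw [← map_pow] at h1
  have h2 : (⟨z, hzH⟩ : H) ^ H.index ∈ commutator H := by
    rw [← Abelianization.ker_of]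
    exact h1
  have h3 : ((⟨z, hzH⟩ : H) ^ H.index : H).1 ∈ (commutator H).map H.subtype := ⟨_, h2, rfl⟩
  rw [_root_.commutator_def, Subgroup.map_commutator, ← MonoidHom.range_eq_map, Subgroup.range_subtype] at h3
  exact h3

/-- the kernel elements of `p`-power order are commutators, if there is a commuting pair generating a subgroup of index
prime to `p` -/
theorem comm_of_pair [Finite L] (h : PCE π) {p : ℕ} (hp : p.Prime) {x y : X} (hxy : x * y = y * x)
    (hidx : ¬ p ∣ (closure {x, y} : Subgroup X).index) {z : L} (hz : π z = 1) {k : ℕ} (hk : z ^ p ^ k = 1) :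
    ∃ a b : L, ⁅a, b⁆ = z := by
  obtain ⟨α, hα⟩ := h.surj x
  obtain ⟨β, hβ⟩ := h.surj y
  set κ := ⁅α, β⁆ with hκ
  have hk1 : π κ = 1 := by
    rw [hκ, map_commutatorElement, hα, hβ, commutatorElement_eq_one_iff_mul_comm, hxy]
  have hkc := h.comm hk1
  have hS : ({x, y} : Set X) = π '' {α, β} := by rw [Set.image_pair, hα, hβ]
  have h7 := commutator_comap_le h (S := {α, β}) (M := zpowers κ) (by
    intro s _ m hm
    obtain ⟨j, rfl⟩ := mem_zpowers_iff.1 hm
    have h1 : Commute (κ ^ j) s := (show Commute κ s from hkc s).zpow_left j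
    constructor
    · rw [← h1.eq, mul_inv_cancel_right]; exact hm
    · rw [mul_assoc, h1.eq, inv_mul_cancel_left]; exact hm) (by
    intro s hs t ht
    rcases hs with rfl | rfl <;> rcases ht with rfl | rfl
    · rw [commutatorElement_self]; exact one_mem _
    · exact mem_zpowers _
    · rw [← commutatorElement_inv]; exact inv_mem (mem_zpowers _)
    · rw [commutatorElement_self]; exact one_mem _)
  rw [← hS] at h7
  have h8 := pow_index_mem h.perf ((closure {x, y} : Subgroup X).comap π) (h.cen (MonoidHom.mem_ker.2 hz))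
    (by rw [mem_comap, hz]; exact one_mem _)
  obtain ⟨j, hj⟩ := mem_zpowers_iff.1 (h7 h8)
  have hi : ((closure {x, y} : Subgroup X).comap π).index = (closure {x, y} : Subgroup X).index :=
    Subgroup.index_comap_of_surjective _ h.surj
  rw [hi] at hj
  have hcop : Nat.Coprime (closure {x, y} : Subgroup X).index (p ^ k) :=
    ((Nat.Prime.coprime_iff_not_dvd hp).2 hidx).symm.pow_right k
  obtain ⟨m, hm⟩ := exists_pow_eq_self_of_coprime (n := (closure {x, y} : Subgroup X).index) (x := z) (by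
    exact hcop.coprime_dvd_right (orderOf_dvd_of_pow_eq_one hk))
  refine ⟨α ^ (j * m), β, ?_⟩
  rw [comm_zpow_left hkc hκ.symm, zpow_mul, hj, zpow_natCast, hm]

end pair

end Cfsg.Agent.H990.TC
end

-- part: H990/TC/RowAlt
section
/-!
# Two commutators in the covers of the alternating groups
-/

set_option autoImplicit false
set_option linter.unusedVariables false

namespace Cfsg.Agent.H990.TC

open Subgroup Equiv Cfsg.Agent.H51.Mult Cfsg.Agent.H51.Crit Cfsg.Agent.H68.Bounds
open scoped commutatorElement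

universe u v w

theorem one_alt {n : ℕ} (hn : 5 ≤ n) : One (alternatingGroup (Fin n)) := by
  rintro ⟨g, hg⟩
  obtain ⟨a, b, ha, hb, hab, -⟩ := Cfsg.Agent.H155.AltComm.exists_comm (α := Fin n) (by rw [Fintype.card_fin]; exact hn)
    (Perm.mem_alternatingGroup.1 hg)
  exact ⟨⟨a, Perm.mem_alternatingGroup.2 ha⟩, ⟨b, Perm.mem_alternatingGroup.2 hb⟩, Subtype.ext hab⟩

theorem center_alt {n : ℕ} (hn : 5 ≤ n) : center (alternatingGroup (Fin n)) = ⊥ := by
  have hs : IsSimpleGroup (alternatingGroup (Fin n)) := alternatingGroup.isSimpleGroup (by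
    rw [Nat.card_eq_fintype_card, Fintype.card_fin]; exact hn)
  rcases hs.eq_bot_or_eq_top_of_normal (center (alternatingGroup (Fin n))) inferInstance with h | h
  · exact h
  · exfalso
    have h1 : ∀ x y : alternatingGroup (Fin n), x * y = y * x := fun x y => by
      have : y ∈ center (alternatingGroup (Fin n)) := by rw [h]; exact mem_top _
      exact mem_center_iff.1 this x
    obtain ⟨m, rfl⟩ := Nat.exists_eq_add_of_le hn
    have := alternatingGroup.center_eq_bot (α := Fin (5 + m)) (by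
      rw [Nat.card_eq_fintype_card, Fintype.card_fin]; omega)
    rw [this] at h
    have h2 : (⊤ : Subgroup (alternatingGroup (Fin (5 + m)))) ≠ ⊥ := top_ne_bot
    exact h2 h.symm

/-- the centre of a perfect central extension of a centreless group -/
theorem ker_eq_center {L : Type u} {X : Type v} [Group L] [Group X] {π : L →* X} (h : PCE π) (hX : center X = ⊥) :
    π.ker = center L := by
  refine le_antisymm h.cen fun z hz => ?_
  rw [MonoidHom.mem_ker]
  have h1 : π z ∈ center X := by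
    rw [mem_center_iff]
    intro x
    obtain ⟨g, rfl⟩ := h.surj x
    rw [← map_mul, ← map_mul, mem_center_iff.1 hz g]
  rw [hX] at h1
  exact h1

/-- the covers of `A_n` with kernel of order at most two -/
theorem one_of_two {n : ℕ} (hn : 5 ≤ n) {L : Type u} [Group L] [Finite L] {π : L →* alternatingGroup (Fin n)}
    (h : PCE π) (h2 : Nat.card π.ker ∣ 2) : One L := by
  rcases (Nat.dvd_prime Nat.prime_two).1 h2 with h3 | h3
  · have h4 : Function.Injective π := by
      rw [← MonoidHom.ker_eq_bot_iff]; exact Subgroup.eq_bot_of_card_eq _ h3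
    let e : L ≃* alternatingGroup (Fin n) := MulEquiv.ofBijective π ⟨h4, h.surj⟩
    exact (one_alt hn).of_surj e.symm.toMonoidHom e.symm.surjective
  · have hk := ker_eq_center h (center_alt hn)
    rw [hk] at h3
    let e : L ⧸ center L ≃* alternatingGroup (Fin n) :=
      (QuotientGroup.quotientMulEquivOfEq hk.symm).trans (QuotientGroup.quotientKerEquivOfSurjective π h.surj)
    intro g
    exact Cfsg.Agent.S2493.result h.perf hn h3 e g

/-- **the generic alternating row** -/
theorem row_alt_generic {n : ℕ} (hn : 5 ≤ n) (h6 : n ≠ 6) (h7 : n ≠ 7) : Row.{u} (alternatingGroup (Fin n)) := by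
  intro L _ _ π h
  refine One.two (one_of_two hn h ?_)
  have h1 := Cfsg.Agent.S0892.result n (by omega) h6 h7 π.ker h.cen (by rw [h.perf]; exact le_top)
    (QuotientGroup.quotientKerEquivOfSurjective π h.surj)
  have h2 : 0 < Nat.card π.ker := Nat.card_pos
  interval_cases h5 : Nat.card π.ker
  · exact one_dvd _
  · exact dvd_refl _

/-- the 3-torsion of the kernel -/
theorem row_of_six {X : Type v} [Group X] [Finite X] (hm : Cfsg.HasCyclicSchurMultiplier X 6)
    (h2 : ∀ (L : Type u) [Group L] [Finite L] (π : L →* X), PCE π → Nat.card π.ker ∣ 2 → One L)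
    {x y : X} (hxy : x * y = y * x) (hidx : ¬ 3 ∣ (closure {x, y} : Subgroup X).index) : Row.{u} X := by
  intro L _ _ π h
  obtain ⟨hc, hd⟩ := ker_of_hasCyclic hm h
  obtain ⟨z, hz⟩ := hc.exists_generator
  have hz6 : (z : L) ^ 6 = 1 := by
    obtain ⟨k, hk⟩ := hd
    have h1 : z ^ 6 = 1 := by rw [hk, pow_mul, pow_card_eq_one', one_pow]
    have := congrArg Subtype.val h1
    simpa using this
  have hN : zpowers ((z : L) ^ 2) ≤ π.ker := by
    rw [zpowers_le]; exact pow_mem z.2 2
  obtain ⟨L', _, q, ρ, hq, hk, hρ, h1⟩ := h.quot hN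
  haveI : Finite L' := Finite.of_surjective q hq
  refine two_of_quot hq (hk ▸ hN.trans h.cen) (h2 L' ρ h1 ?_) ?_
  · have h3 : ∀ w ∈ ρ.ker, w ∈ zpowers (q z) := by
      intro w hw
      obtain ⟨v, rfl⟩ := hq w
      have hv : v ∈ π.ker := by rw [MonoidHom.mem_ker, ← hρ]; exact hw
      obtain ⟨j, hj⟩ := mem_zpowers_iff.1 (hz ⟨v, hv⟩)
      rw [mem_zpowers_iff]
      refine ⟨j, ?_⟩
      rw [← map_zpow]
      congr 1
      have := congrArg Subtype.val hj
      simpa using this
    have h4 : (q z) ^ 2 = 1 := by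
      rw [← map_pow]
      have : (z : L) ^ 2 ∈ q.ker := by rw [hk]; exact mem_zpowers _
      exact this
    have h5 : Nat.card ρ.ker ∣ Nat.card (zpowers (q (z : L))) := Subgroup.card_dvd_of_le h3
    rw [Nat.card_zpowers] at h5
    exact h5.trans (orderOf_dvd_of_pow_eq_one h4)
  · intro w hw
    rw [hk] at hw
    obtain ⟨j, rfl⟩ := mem_zpowers_iff.1 hw
    refine comm_of_pair h Nat.prime_three hxy hidx (k := 1) ?_ ?_
    · have : (z : L) ^ 2 ∈ π.ker := pow_mem z.2 2
      exact zpow_mem this j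
    · rw [pow_one, ← zpow_natCast, ← zpow_mul, mul_comm, zpow_mul, zpow_natCast, ← pow_mul, hz6, one_zpow]

/-- a pair of commuting elements of order three -/
def ThreePair {X : Type v} [Group X] (x y : X) : Prop :=
  x ^ 3 = 1 ∧ y ^ 3 = 1 ∧ x * y = y * x ∧ x ≠ 1 ∧ y ≠ 1 ∧ y ≠ x ∧ y ≠ x ^ 2

theorem ThreePair.not_dvd {X : Type v} [Group X] [Finite X] {x y : X} (h : ThreePair x y)
    (hX : ¬ 3 ^ 3 ∣ Nat.card X) : ¬ 3 ∣ (closure {x, y} : Subgroup X).index := by
  obtain ⟨k1, k2, k3, k4, k5, k6, k7⟩ := h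
  refine Cfsg.Agent.H51.Tools.not_dvd_index_sq Nat.prime_three k1 k2 k3 k4 ?_ hX
  intro h
  obtain ⟨j, hj⟩ := (Submonoid.mem_powers_iff _ _).1 (mem_powers_iff_mem_zpowers.2 h)
  have h3 : x ^ j = x ^ (j % 3) := by
    conv_lhs => rw [← Nat.div_add_mod j 3, pow_add, pow_mul, k1, one_pow, one_mul]
  rw [h3] at hj
  have h4 : j % 3 < 3 := Nat.mod_lt _ (by norm_num)
  interval_cases j % 3
  · exact k5 (by rw [← hj, pow_zero])
  · exact k6 (by rw [← hj, pow_one])
  · exact k7 hj.symm

theorem row_alt_six : Row.{u} (alternatingGroup (Fin 6)) := by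
  have key : ThreePair (X := alternatingGroup (Fin 6))
      ⟨swap 0 1 * swap 1 2, Perm.mem_alternatingGroup.2 (by decide)⟩
      ⟨swap 3 4 * swap 4 5, Perm.mem_alternatingGroup.2 (by decide)⟩ := by
    unfold ThreePair; decide
  refine row_of_six (Cfsg.Agent.S2116.result 6 (Or.inl rfl))
    (fun L _ _ π h h2 => one_of_two (by norm_num) h h2) key.2.2.1 (key.not_dvd ?_)
  rw [nat_card_alternatingGroup, Nat.card_eq_fintype_card, Fintype.card_fin]; decide

theorem row_alt_seven : Row.{u} (alternatingGroup (Fin 7)) := by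
  have key : ThreePair (X := alternatingGroup (Fin 7))
      ⟨swap 0 1 * swap 1 2, Perm.mem_alternatingGroup.2 (by decide)⟩
      ⟨swap 3 4 * swap 4 5, Perm.mem_alternatingGroup.2 (by decide)⟩ := by
    unfold ThreePair; decide
  refine row_of_six (Cfsg.Agent.S2116.result 7 (Or.inr rfl))
    (fun L _ _ π h h2 => one_of_two (by norm_num) h h2) key.2.2.1 (key.not_dvd ?_)
  rw [nat_card_alternatingGroup, Nat.card_eq_fintype_card, Fintype.card_fin]; decide

/-- **the alternating row** -/
theorem row_alt {n : ℕ} (hn : 5 ≤ n) : Row.{u} (alternatingGroup (Fin n)) := by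
  by_cases h6 : n = 6
  · subst h6; exact row_alt_six
  by_cases h7 : n = 7
  · subst h7; exact row_alt_seven
  exact row_alt_generic hn h6 h7

end Cfsg.Agent.H990.TC
end

-- part: H990/TC/RowLin
section
/-!
# Two commutators in the covers of the linear and symplectic groups (without `L3(4)` and `Sp6(2)`)
-/

set_option autoImplicit false
set_option linter.unusedVariables false

namespace Cfsg.Agent.H990.TC

open Subgroup Cfsg.Agent.H51.Mult Cfsg.Agent.H68.Bounds

universe u v w

variable {F : Type v} [Field F] [Fintype F]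

theorem perf_of_one {G : Type u} [Group G] (h : One G) : commutator G = ⊤ := by
  rw [eq_top_iff]
  intro g _
  obtain ⟨a, b, rfl⟩ := h g
  exact commutator_mem_commutator (mem_top a) (mem_top b)

theorem one_SL {n : ℕ} (hn : 2 ≤ n) (hex : n = 2 → 4 ≤ Fintype.card F) : One (Matrix.SpecialLinearGroup (Fin n) F) :=
  fun g => by
    obtain ⟨a, b, h⟩ := Cfsg.Agent.S2444.result (F := F) n hn hex g
    exact ⟨a, b, h.symm⟩

theorem pce_mk {G : Type u} [Group G] (h : commutator G = ⊤) : PCE (QuotientGroup.mk' (center G)) :=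
  ⟨QuotientGroup.mk'_surjective _, by rw [QuotientGroup.ker_mk'], h⟩

theorem row_psl_generic {n : ℕ} (h : Cfsg.Agent.H60.MultA.Ok n (Nat.card F)) :
    Row.{u} (Matrix.ProjectiveSpecialLinearGroup (Fin n) F) := by
  have h1 : One (Matrix.SpecialLinearGroup (Fin n) F) := one_SL h.two (fun h2 => by
    rw [← Nat.card_eq_fintype_card]; exact h.four h2)
  exact row_of_trivial (pce_mk (perf_of_one h1)) (Cfsg.Agent.H60.MultA.hasTrivial_SL h) h1.two

/-- **the linear row** without `L3(4)` -/
theorem row_psl {n : ℕ} (hn : 2 ≤ n) (h2 : n = 2 → 4 ≤ Fintype.card F) (h34 : ¬ (n = 3 ∧ Fintype.card F = 4)) :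
    Row.{u} (Matrix.ProjectiveSpecialLinearGroup (Fin n) F) := by
  have hc : Nat.card F = Fintype.card F := Nat.card_eq_fintype_card
  by_cases h24 : n = 2 ∧ Fintype.card F = 4
  · obtain ⟨rfl, hF⟩ := h24
    obtain ⟨e⟩ := Cfsg.Agent.S0252.result hF
    exact Row.congr e.symm (row_alt (by norm_num))
  by_cases h29 : n = 2 ∧ Fintype.card F = 9
  · obtain ⟨rfl, hF⟩ := h29
    obtain ⟨e⟩ := Cfsg.Agent.S0254.result hF
    exact Row.congr e.symm (row_alt (by norm_num))
  by_cases h32 : n = 3 ∧ Fintype.card F = 2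
  · obtain ⟨rfl, hF⟩ := h32
    haveI : Fact (Nat.Prime 7) := ⟨by norm_num⟩
    obtain ⟨e⟩ := Cfsg.Agent.S0255.result (F := ZMod 7) (K := F) (ZMod.card 7) hF
    refine Row.congr e (row_psl_generic ⟨by norm_num, fun _ => ?_, ?_⟩)
    · rw [Nat.card_zmod]; norm_num
    · rw [Nat.card_zmod]; simp
  by_cases h42 : n = 4 ∧ Fintype.card F = 2
  · obtain ⟨rfl, hF⟩ := h42
    obtain ⟨e⟩ := Cfsg.Agent.S0256.result hF
    exact Row.congr e.symm (row_alt (by norm_num))
  refine row_psl_generic ⟨hn, by rwa [hc], ?_⟩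
  rw [hc]
  simp only [Set.mem_insert_iff, Set.mem_singleton_iff, Prod.mk.injEq, not_or]
  exact ⟨h24, h29, h32, h34, h42⟩

/-- **the symplectic row** without `Sp6(2)` -/
theorem row_psp {m : ℕ} (hm : 2 ≤ m) (h2 : m = 2 → 3 ≤ Fintype.card F) (hexc : ¬ (m = 3 ∧ Fintype.card F = 2)) :
    Row.{u} (Cfsg.PSp m F) := by
  have h1 : One (Matrix.symplecticGroup (Fin m) F) := fun g => by
    obtain ⟨a, b, h⟩ := Cfsg.Agent.S2445.result (F := F) m (by omega) (fun h => by omega) h2 g
    exact ⟨a, b, h.symm⟩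
  exact row_of_trivial (pce_mk (perf_of_one h1)) (Cfsg.Agent.H62.SpMult.hasTrivial_Sp hm h2 hexc) h1.two

end Cfsg.Agent.H990.TC
end

-- part: H990/TC/PDLin
section
/-!
# Degrees of representations of the covers of the linear groups
-/

set_option autoImplicit false
set_option linter.unusedVariables false

namespace Cfsg.Agent.H990.TC

open Subgroup Cfsg.Agent.H51.Mult Cfsg.Agent.H68.Bounds
open Cfsg.Agent.H253.TC (PD)
open scoped commutatorElement

universe u v w

/-- a proper normal subgroup of a quasisimple group is central -/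
theorem le_center_or_top {G : Type u} [Group G] (hp : commutator G = ⊤) (hs : IsSimpleGroup (G ⧸ center G))
    (N : Subgroup G) [hN : N.Normal] : N ≤ center G ∨ N = ⊤ := by
  have h1 : (N.map (QuotientGroup.mk' (center G))).Normal := hN.map _ (QuotientGroup.mk'_surjective _)
  rcases hs.eq_bot_or_eq_top_of_normal _ h1 with h2 | h2
  · left
    intro x hx
    have h3 : QuotientGroup.mk' (center G) x ∈ N.map (QuotientGroup.mk' (center G)) := ⟨x, hx, rfl⟩
    rw [h2, mem_bot] at h3
    exact (QuotientGroup.eq_one_iff x).1 h3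
  · right
    have h4 : ∀ g : G, ∃ n ∈ N, ∃ z ∈ center G, g = n * z := by
      intro g
      have h3 : QuotientGroup.mk' (center G) g ∈ N.map (QuotientGroup.mk' (center G)) := by rw [h2]; exact mem_top _
      obtain ⟨n, hn, hng⟩ := h3
      refine ⟨n, hn, n⁻¹ * g, ?_, by group⟩
      rw [← QuotientGroup.eq]
      exact hng
    rw [eq_top_iff, ← hp, _root_.commutator_def, commutator_le]
    intro a _ b _
    obtain ⟨n, hn, z, hz, rfl⟩ := h4 a
    obtain ⟨m, hm, w, hw, rfl⟩ := h4 b
    have hz' := mem_center_iff.1 hz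
    have hw' := mem_center_iff.1 hw
    have : ⁅n * z, m * w⁆ = ⁅n, m⁆ := by
      rw [commutatorElement_def, commutatorElement_def]
      calc n * z * (m * w) * (n * z)⁻¹ * (m * w)⁻¹ = n * (z * (m * w)) * z⁻¹ * n⁻¹ * (m * w)⁻¹ := by group
        _ = n * ((m * w) * z) * z⁻¹ * n⁻¹ * (m * w)⁻¹ := by rw [hz']
        _ = n * m * (w * n⁻¹) * w⁻¹ * m⁻¹ := by group
        _ = n * m * (n⁻¹ * w) * w⁻¹ * m⁻¹ := by rw [hw']
        _ = n * m * n⁻¹ * m⁻¹ := by group
    rw [this, commutatorElement_def]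
    exact mul_mem (mul_mem (mul_mem hn hm) (inv_mem hn)) (inv_mem hm)

theorem perf_SL {F : Type v} [Field F] [Fintype F] {n : ℕ} (hn : 2 ≤ n) (hex : n = 2 → 4 ≤ Fintype.card F) :
    commutator (Matrix.SpecialLinearGroup (Fin n) F) = ⊤ := perf_of_one (one_SL hn hex)

/-- degrees of `SL_n(q)` itself -/
theorem deg_SL {F : Type v} [Field F] [Fintype F] {n : ℕ} (hn : 3 ≤ n) {d : ℕ}
    (ρ : Representation ℂ (Matrix.SpecialLinearGroup (Fin n) F) (Fin d → ℂ)) (hρ : ∃ g, ρ g ≠ 1) :
    Fintype.card F ^ (n - 1) - 1 ≤ d := by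
  let f : Matrix.SpecialLinearGroup (Fin n) F →* GL (Fin d) ℂ :=
    (Matrix.GeneralLinearGroup.toLin (n := Fin d) (R := ℂ)).symm.toMonoidHom.comp ρ.asGroupHom
  have hker : ∀ x, f x = 1 ↔ ρ x = 1 := by
    intro x
    constructor
    · intro h
      have h1 : ρ.asGroupHom x = 1 := by
        apply (Matrix.GeneralLinearGroup.toLin (n := Fin d) (R := ℂ)).symm.injective
        rw [map_one]; exact h
      rw [← Representation.asGroupHom_apply ρ x, h1, Units.val_one]
    · intro h
      have h1 : ρ.asGroupHom x = 1 := by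
        apply Units.ext
        rw [Representation.asGroupHom_apply, h, Units.val_one]
      show (Matrix.GeneralLinearGroup.toLin (n := Fin d) (R := ℂ)).symm (ρ.asGroupHom x) = 1
      rw [h1, map_one]
  have hs : IsSimpleGroup (Matrix.SpecialLinearGroup (Fin n) F ⧸ center (Matrix.SpecialLinearGroup (Fin n) F)) :=
    Cfsg.Agent.S0249.result n hn
  rcases le_center_or_top (perf_SL (F := F) (n := n) (by omega) (fun h => by omega)) hs f.ker with h | h
  · refine Cfsg.Agent.S2392.result rfl n hn ?_ f h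
    rw [ringChar.eq_zero (R := ℂ)]
    exact fun h0 => CharP.ringChar_ne_zero_of_finite F h0.symm
  · exfalso
    obtain ⟨g, hg⟩ := hρ
    exact hg ((hker g).1 (by
      have : g ∈ f.ker := by rw [h]; exact mem_top g
      exact this))

/-- **degrees of the covers of `SL_n(q)`** -/
theorem pd_SL {F : Type v} [Field F] [Fintype F] {n : ℕ} (hn : 3 ≤ n) (h : Cfsg.Agent.H60.MultA.Ok n (Nat.card F)) :
    PD (Matrix.SpecialLinearGroup (Fin n) F) (Fintype.card F ^ (n - 1) - 1) := by
  intro L _ _ π hπ d ρ hρ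
  have h1 := (ker_of_hasCyclic (Cfsg.Agent.H60.MultA.hasTrivial_SL h) hπ).2
  have h2 : Function.Injective π := by
    rw [← MonoidHom.ker_eq_bot_iff]
    exact Subgroup.eq_bot_of_card_eq _ (Nat.dvd_one.1 h1)
  let e : L ≃* Matrix.SpecialLinearGroup (Fin n) F := MulEquiv.ofBijective π ⟨h2, hπ.surj⟩
  refine deg_SL hn (ρ.comp e.symm.toMonoidHom) ?_
  obtain ⟨g, hg⟩ := hρ
  exact ⟨e g, by
    show ρ (e.symm (e g)) ≠ 1
    rwa [e.symm_apply_apply]⟩

end Cfsg.Agent.H990.TC
end

private theorem dce_a49ab519406b : _root_.True := by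
  try have : _root_.True := by simp only [_root_.Cfsg.Agent.H990.TC.One.eq_1]
  exact _root_.True.intro
end

-- part: H514/DP/SLRes
section
set_option linter.all false
open scoped Cfsg.Agent.FastGrp

/-!
# RESULT W: companion matrices of `SL_n(q)` are products of ten `p`-elements (S2454)
-/

set_option autoImplicit false
set_option linter.unusedSectionVars false

namespace Cfsg.Agent.H514.DP

open Matrix Subgroup

variable {F : Type*} [Field F]

theorem exists_ne_one {G : Type*} [Group G] {k : ℕ} (ρ : Representation ℂ G (Fin k → ℂ)) (hρ : ρ.IsIrreducible) (hk : 2 ≤ k) :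
    ∃ g, ρ g ≠ 1 := by
  by_contra hcon
  push Not at hcon
  have h0 : (0 : ℕ) < k := by omega
  let v : Fin k → ℂ := Pi.single ⟨0, h0⟩ 1
  have hv : v ≠ 0 := by
    intro h
    have := congrFun h ⟨0, h0⟩
    simp [v] at this
  let W : Subrepresentation ρ :=
    { toSubmodule := Submodule.span ℂ {v}
      apply_mem_toSubmodule := by
        intro g w hw
        rw [hcon g]
        exact hw }
  have hW : W = ⊥ ∨ W = ⊤ := eq_bot_or_eq_top W
  rcases hW with hW | hW
  · have h1 : v ∈ W.toSubmodule := Submodule.mem_span_singleton_self v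
    rw [hW] at h1
    exact hv ((Submodule.mem_bot ℂ).mp h1)
  · have h1 : W.toSubmodule = ⊤ := by rw [hW]; rfl
    have h2 : Module.finrank ℂ (Submodule.span ℂ {v}) = k := by
      change Module.finrank ℂ W.toSubmodule = k
      rw [h1, finrank_top, Module.finrank_fin_fun]
    rw [finrank_span_singleton hv] at h2
    omega

/-- minimal degree, simple general bound. -/
theorem minDeg_SL [Finite F] {n : ℕ} (hn : 3 ≤ n) : MinDeg (_root_.Matrix.SpecialLinearGroup (Fin n) F) (Nat.card F ^ (n - 1) - 1) := by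
  have := Fintype.ofFinite F
  intro k ρ hρ hk
  rw [Nat.card_eq_fintype_card]
  exact H990.TC.deg_SL hn ρ (exists_ne_one ρ hρ hk)

theorem perfect_SL {n : ℕ} (hn : 3 ≤ n) : _root_.commutator (_root_.Matrix.SpecialLinearGroup (Fin n) F) = ⊤ := S0248.result n hn

theorem geom_succ {q e : ℕ} (hq : 1 < q) (he : 1 ≤ e) : (q ^ e - 1) / (q - 1) = (q ^ e - q) / (q - 1) + 1 := by
  have h1 : q ≤ q ^ e := by
    calc q = q ^ 1 := (pow_one q).symm
      _ ≤ q ^ e := Nat.pow_le_pow_right (by omega) he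
  have h2 : q ^ e - 1 = (q ^ e - q) + (q - 1) := by omega
  rw [h2, Nat.add_div_right _ (by omega)]

/-- minimal degree, sharp bound. -/
theorem minDeg_SL' [Finite F] {n : ℕ} (hn : 3 ≤ n) (hex : (n, Nat.card F) ≠ (3, 2) ∧ (n, Nat.card F) ≠ (3, 4) ∧
    (n, Nat.card F) ≠ (4, 2) ∧ (n, Nat.card F) ≠ (4, 3)) :
    MinDeg (_root_.Matrix.SpecialLinearGroup (Fin n) F) ((Nat.card F ^ n - Nat.card F) / (Nat.card F - 1)) := by
  classical
  have := Fintype.ofFinite F
  rw [Nat.card_eq_fintype_card] at hex ⊢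
  exact (S2332.result n hn hex).1

theorem isPE_sing {K : Type*} [Field K] [Algebra F K] {n : ℕ} (b : Module.Basis (Fin n) F K) {z : K}
    (h : Algebra.norm F z = 1) {p k : ℕ} (hz : orderOf z = p ^ k) : IsPE p (sing b z h) := by
  refine ⟨k, Subtype.ext ?_⟩
  rw [val_pow, val_one]
  show Algebra.leftMulMatrix b z ^ p ^ k = 1
  rw [← map_pow, ← hz, pow_orderOf_eq_one, map_one]

theorem lt_of_small {a b : ℕ} {m n : ℕ} (h : a ≤ b) (hb : b ^ m < n) : a ^ m < n :=
  lt_of_le_of_lt (Nat.pow_le_pow_left h m) hb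

/-- K for `SL_e(q)`, `e` the order of `q` modulo `p`. -/
theorem pw_SL_of_bound [Finite F] {p e m d : ℕ} (hp : p.Prime) (he : 3 ≤ e) (hd : p ∣ Nat.card F ^ e - 1)
    (hmin : ∀ i, 0 < i → i < e → ¬ p ∣ Nat.card F ^ i - 1) (hm : 3 ≤ m) (hdeg : MinDeg (_root_.Matrix.SpecialLinearGroup (Fin e) F) d)
    (hb : ((Nat.card F ^ e - 1) / (Nat.card F - 1) - 1) ^ m < d ^ (2 * m - 4)) :
    PW p m (_root_.Matrix.SpecialLinearGroup (Fin e) F) := by
  obtain ⟨K, _, _, ⟨b⟩⟩ := exists_ext (F := F) (n := e) (by omega)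
  obtain ⟨z, hz1, hz2, hz3⟩ := exists_order_elt b (by omega) hp hd hmin
  have h1 := card_centralizer_sing_le b z hz1 hz3
  have h2 : PE p 1 (sing b z hz1) := (isPE_sing b hz1 (k := 1) (by rw [pow_one]; exact hz2)).pe
  have h3 := PW.of_pe (perfect_SL he) h2 hdeg hm (lt_of_small (Nat.sub_le_sub_right h1 1) hb)
  rwa [one_mul] at h3

/-- `SL_e(F) = A^5`. -/
theorem pw_SL_of_order [Finite F] {p e : ℕ} (hp : p.Prime) (he : 3 ≤ e) (hd : p ∣ Nat.card F ^ e - 1)
    (hmin : ∀ i, 0 < i → i < e → ¬ p ∣ Nat.card F ^ i - 1)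
    (hex : ¬ (e = 3 ∧ Nat.card F = 2) ∧ ¬ (e = 4 ∧ Nat.card F = 2)) : PW p 5 (_root_.Matrix.SpecialLinearGroup (Fin e) F) := by
  have hq : 1 < Nat.card F := Finite.one_lt_card
  by_cases h34 : e = 3 ∧ Nat.card F = 4
  · obtain ⟨rfl, h4⟩ := h34
    refine pw_SL_of_bound hp le_rfl hd hmin (by norm_num) (minDeg_SL le_rfl) ?_
    rw [h4]; norm_num
  by_cases h43 : e = 4 ∧ Nat.card F = 3
  · obtain ⟨rfl, h3⟩ := h43
    refine pw_SL_of_bound hp he hd hmin (by norm_num) (minDeg_SL he) ?_
    rw [h3]; norm_num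
  refine pw_SL_of_bound hp he hd hmin (by norm_num) (minDeg_SL' he ⟨?_, ?_, ?_, ?_⟩) ?_
  · intro h; rw [Prod.mk.injEq] at h; exact hex.1 h
  · intro h; rw [Prod.mk.injEq] at h; exact h34 h
  · intro h; rw [Prod.mk.injEq] at h; exact hex.2 h
  · intro h; rw [Prod.mk.injEq] at h; exact h43 h
  · rw [geom_succ hq (by omega), Nat.add_sub_cancel]
    refine Nat.pow_lt_pow_right ?_ (by norm_num)
    -- `d ≥ 2`
    rw [Nat.lt_iff_add_one_le, Nat.le_div_iff_mul_le (by omega)]
    have h1 : Nat.card F ^ 3 ≤ Nat.card F ^ e := Nat.pow_le_pow_right (by omega) he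
    have h2 : (1 + 1) * (Nat.card F - 1) + Nat.card F ≤ Nat.card F ^ 3 := by
      obtain ⟨k, hk⟩ := Nat.exists_eq_add_of_lt hq
      rw [hk]
      have h3 : (1 + k + 1) ^ 3 = (1 + 1) * (k + 1) + (k + 2) + (k ^ 3 + 6 * k ^ 2 + 9 * k + 4) := by ring
      have h4 : 1 + k + 1 - 1 = k + 1 := by omega
      rw [h3, h4]
      omega
    omega

/-- K for `SL_(k+1)(q)` with a block element of order a power of `p`. -/
theorem pw_SL_of_blk [Finite F] {p k m d : ℕ} {K : Type*} [Field K] [Algebra F K] (b : Module.Basis (Fin k) F K)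
    (hk : 2 ≤ k) {z : K} (hz0 : z ≠ 0) (hz : Algebra.adjoin F {z} = ⊤) {j : ℕ} (hord : orderOf z = p ^ j) (hm : 3 ≤ m)
    (hdeg : MinDeg (_root_.Matrix.SpecialLinearGroup (Fin (k + 1)) F) d) (hb : (Nat.card F ^ k - 1 - 1) ^ m < d ^ (2 * m - 4)) :
    PW p m (_root_.Matrix.SpecialLinearGroup (Fin (k + 1)) F) := by
  have h3 := PW.of_pe (perfect_SL (F := F) (n := k + 1) (by omega)) (isPE_blk b hz0 hord).pe hdeg hm
    (lt_of_small (Nat.sub_le_sub_right (card_centralizer_blk_le b hk hz0 hz) 1) hb)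
  rwa [one_mul] at h3

/-- the same with `z` of order `p`, `k` the order of `q` modulo `p`. -/
theorem pw_SL_succ [Finite F] {p k m : ℕ} (hp : p.Prime) (hk : 2 ≤ k) (hd : p ∣ Nat.card F ^ k - 1)
    (hmin : ∀ i, 0 < i → i < k → ¬ p ∣ Nat.card F ^ i - 1) (hm : 3 ≤ m)
    (hb : (Nat.card F ^ k - 1 - 1) ^ m < (Nat.card F ^ k - 1) ^ (2 * m - 4)) :
    PW p m (_root_.Matrix.SpecialLinearGroup (Fin (k + 1)) F) := by
  obtain ⟨K, _, _, ⟨b⟩⟩ := exists_ext (F := F) (n := k) (by omega)
  have := finite_ext b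
  obtain ⟨z, hz1, hz2, hz3⟩ := exists_order_elt b hk hp hd hmin
  have hz0 : z ≠ 0 := by
    rintro rfl
    rw [orderOf_zero] at hz2
    exact hp.ne_zero hz2.symm
  exact pw_SL_of_blk b hk hz0 hz3 (j := 1) (by rw [pow_one]; exact hz2) hm (minDeg_SL (by omega)) hb

/-- `SL_3(3)` and `2`-elements -/
theorem pw_SL33 [Finite F] (hF : Nat.card F = 3) : PW 2 4 (_root_.Matrix.SpecialLinearGroup (Fin 3) F) := by
  obtain ⟨K, _, _, ⟨b⟩⟩ := exists_ext (F := F) (n := 2) (by omega)
  have := finite_ext b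
  obtain ⟨g, hg⟩ := IsCyclic.exists_generator (α := Kˣ)
  have hord : orderOf g = 8 := by
    rw [orderOf_eq_card_of_forall_mem_zpowers hg, Nat.card_units, card_ext b, hF]
    norm_num
  have h1 : orderOf (g : K) = 2 ^ 3 := by rw [orderOf_units, hord]; norm_num
  refine pw_SL_of_blk b le_rfl g.ne_zero ?_ h1 (by norm_num) (minDeg_SL le_rfl) ?_
  · refine adjoin_eq_top b g.ne_zero ?_
    rw [h1, hF]; norm_num
  · rw [hF]; norm_num

/-- the case split: `p` divides `|SL_n(q)|`. -/
theorem exists_order_of_dvd [Finite F] {p n : ℕ} (hp : p.Prime) (hn : 1 ≤ n)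
    (hd : p ∣ Nat.card (_root_.Matrix.SpecialLinearGroup (Fin n) F)) :
    CharP F p ∨ ∃ e, 1 ≤ e ∧ e ≤ n ∧ p ∣ Nat.card F ^ e - 1 ∧ ∀ i, 0 < i → i < e → ¬ p ∣ Nat.card F ^ i - 1 := by
  classical
  have := Fintype.ofFinite F
  have h1 : p ∣ ∏ i : Fin n, (Nat.card F ^ n - Nat.card F ^ (i : ℕ)) := by
    rw [← S0242.result (F := F) Nat.card_eq_fintype_card.symm n hn]
    exact dvd_mul_of_dvd_right hd _
  obtain ⟨i, -, hi⟩ := (Prime.dvd_finsetProd_iff hp.prime _).1 h1
  have h2 : Nat.card F ^ n - Nat.card F ^ (i : ℕ) = Nat.card F ^ (i : ℕ) * (Nat.card F ^ (n - i) - 1) := by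
    rw [Nat.mul_sub, mul_one, ← pow_add]
    congr 2
    have := i.2
    omega
  rw [h2, hp.dvd_mul] at hi
  rcases hi with hi | hi
  · left
    have h3 : p ∣ Nat.card F := hp.dvd_of_dvd_pow hi
    obtain ⟨r, hr⟩ := CharP.exists F
    have hrp : r.Prime := CharP.char_is_prime F r
    obtain ⟨k, -, hk⟩ := FiniteField.card F r
    rw [Nat.card_eq_fintype_card, hk] at h3
    have h4 : p = r := (Nat.prime_dvd_prime_iff_eq hp hrp).1 (hp.dvd_of_dvd_pow h3)
    rw [h4]; exact hr
  · right
    have hex : ∃ e, 1 ≤ e ∧ p ∣ Nat.card F ^ e - 1 := ⟨n - i, by have := i.2; omega, hi⟩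
    refine ⟨Nat.find hex, (Nat.find_spec hex).1, ?_, (Nat.find_spec hex).2, fun j hj hj2 hj3 => ?_⟩
    · exact (Nat.find_min' hex ⟨by have := i.2; omega, hi⟩).trans (Nat.sub_le _ _)
    · exact Nat.find_min hex hj2 ⟨hj, hj3⟩

theorem NonDiag.ns {M : _root_.Matrix.SpecialLinearGroup (Fin 2) F} (h : NonDiag M) : NS M := by
  obtain ⟨i, j, hij, h1⟩ := h
  intro c hc
  apply h1
  rw [hc, Matrix.smul_apply, one_apply_ne hij, smul_zero]

section F2

/-- order 7 in `SL_3(2)` -/
def A7 : _root_.Matrix.SpecialLinearGroup (Fin 3) (ZMod 2) := ⟨!![0, 1, 0; 0, 0, 1; 1, 0, 1], by decide +kernel⟩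
def B7 : _root_.Matrix.SpecialLinearGroup (Fin 3) (ZMod 2) := ⟨!![1, 1, 0; 0, 0, 1; 1, 0, 0], by decide +kernel⟩
def B7' : _root_.Matrix.SpecialLinearGroup (Fin 3) (ZMod 2) := ⟨!![1, 1, 0; 0, 0, 1; 1, 0, 1], by decide +kernel⟩
def C7 (a b : ZMod 2) : _root_.Matrix.SpecialLinearGroup (Fin 3) (ZMod 2) :=
  ⟨!![0, 0, 1; 1, 0, a; 0, 1, b], by revert a b; decide +kernel⟩

theorem A7_pow : A7 ^ 7 = 1 := by decide +kernel
theorem B7_pow : B7 ^ 7 = 1 := by decide +kernel
theorem B7'_pow : B7' ^ 7 = 1 := by decide +kernel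
theorem C7_pow : C7 1 0 ^ 7 = 1 := by decide +kernel
theorem C7_pow' : C7 0 1 ^ 7 = 1 := by decide +kernel
theorem C7_eq : C7 0 0 = A7 * B7 := by decide
theorem C7_eq' : C7 1 1 = A7 * B7' := by decide

theorem isPE_of_pow7 {x : _root_.Matrix.SpecialLinearGroup (Fin 3) (ZMod 2)} (h : x ^ 7 = 1) : IsPE 7 x := ⟨1, by rw [pow_one]; exact h⟩

theorem pe_C7 (a b : ZMod 2) : PE 7 2 (C7 a b) := by
  have ha : a = 0 ∨ a = 1 := by revert a; decide
  have hb : b = 0 ∨ b = 1 := by revert b; decide
  rcases ha with rfl | rfl <;> rcases hb with rfl | rfl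
  · rw [C7_eq]; exact (isPE_of_pow7 A7_pow).pe.mul (isPE_of_pow7 B7_pow).pe
  · exact (isPE_of_pow7 C7_pow').pe.mono (by norm_num)
  · exact (isPE_of_pow7 C7_pow).pe.mono (by norm_num)
  · rw [C7_eq']; exact (isPE_of_pow7 A7_pow).pe.mul (isPE_of_pow7 B7'_pow).pe

theorem pe_comp_7 [Finite F] (hF : Nat.card F = 2) (c : ℕ → F) (h : (comp 3 c).det = 1) : PE 7 2 (compSL 3 c h) := by
  classical
  have := Fintype.ofFinite F
  have hch : CharP F 2 := by
    obtain ⟨r, hr⟩ := CharP.exists F
    have hrp : r.Prime := CharP.char_is_prime F r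
    obtain ⟨k, -, hk⟩ := FiniteField.card F r
    rw [← Nat.card_eq_fintype_card, hF] at hk
    have h4 : r ∣ 2 := hk ▸ dvd_pow_self r k.ne_zero
    have h5 : r = 2 := (Nat.prime_dvd_prime_iff_eq hrp Nat.prime_two).1 h4
    rw [← h5]; exact hr
  have h01 : ∀ x : F, x = 0 ∨ x = 1 := by
    intro x
    by_contra hcon
    push Not at hcon
    have h3 : ({0, 1, x} : Finset F).card ≤ Fintype.card F := Finset.card_le_univ _
    rw [Finset.card_insert_of_notMem (by simp only [hcon.1.symm, _root_.Finset.mem_insert, _root_.zero_ne_one, _root_.Finset.mem_singleton, _root_.or_self, _root_.not_false_eq_true]), Finset.card_insert_of_notMem (by simp [hcon.2.symm]),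
      Finset.card_singleton, ← Nat.card_eq_fintype_card, hF] at h3
    omega
  let f : ZMod 2 →+* F := ZMod.castHom (dvd_refl 2) F
  have hf : ∀ x : F, ∃ a : ZMod 2, f a = x := by
    intro x
    rcases h01 x with rfl | rfl
    · exact ⟨0, map_zero f⟩
    · exact ⟨1, map_one f⟩
  have h0 : c 0 = 1 := by
    have h2 := det_comp 2 c
    rw [h] at h2
    have h3 := h2
    rw [neg_one_sq, one_mul] at h3
    exact h3.symm
  obtain ⟨a, ha⟩ := hf (c 1)
  obtain ⟨b, hb⟩ := hf (c 2)
  have h6 : compSL 3 c h = SpecialLinearGroup.map f (C7 a b) := by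
    apply Subtype.ext
    ext i j
    show comp 3 c i j = f ((C7 a b).1 i j)
    rw [comp_apply]
    (revert i j; simp only [C7, h0, ha, hb, _root_.Fin.forall_fin_succ, Nat.reduceEqDiff, _root_.Matrix.of_apply, _root_.Matrix.cons_val', _root_.Matrix.cons_val_fin_one, Fin.isValue, _root_.Fin.coe_ofNat_eq_mod, _root_.Nat.zero_mod, _root_.OfNat.zero_ne_ofNat, ↓reduceIte, _root_.zero_add, _root_.Matrix.cons_val_zero, _root_.Fin.val_succ, _root_.Matrix.cons_val_succ, _root_.zero_ne_one, Nat.reduceAdd, _root_.Fin.val_eq_zero, _root_.forall_const, _root_.map_zero, _root_.map_one, _root_.and_self, _root_.Nat.add_eq_right, _root_.Fin.val_eq_zero_iff, _root_.Fin.succ_ne_zero, _root_.implies_true])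
  rw [h6]
  exact (pe_C7 a b).map _

end F2

/-- **RESULT W**, companion matrices. -/
theorem pe_compSL [Finite F] {p n : ℕ} (hp : p.Prime) (hn : 3 ≤ n)
    (hd : p ∣ Nat.card (_root_.Matrix.SpecialLinearGroup (Fin n) F)) (c : ℕ → F) (h : (comp n c).det = 1) :
    PE p 10 (compSL n c h) := by
  have hq : 1 < Nat.card F := Finite.one_lt_card
  rcases exists_order_of_dvd hp (by omega) hd with hch | ⟨e, he1, hen, hde, hmin⟩
  · exact (pe_comp (p := p) (m := 3) le_rfl (fun M hM => pe_three_char M hM.ns) (by omega) c h).mono (by norm_num)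
  rcases Nat.lt_or_ge 2 e with he | he
  · by_cases h32 : e = 3 ∧ Nat.card F = 2
    · obtain ⟨rfl, h2⟩ := h32
      have h7 : p = 7 := by
        rw [h2] at hde
        exact (Nat.prime_dvd_prime_iff_eq hp (by norm_num)).1 (by simpa using hde)
      subst h7
      rcases Nat.lt_or_ge 3 n with h4 | h4
      · refine (pe_comp (p := 7) (m := 4) (w := 4) (by norm_num) (fun M _ => ?_) h4 c h).mono (by norm_num)
        refine pw_SL_succ (k := 3) hp (by norm_num) hde hmin (by norm_num) ?_ M
        rw [h2]; norm_num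
      · obtain rfl : n = 3 := by omega
        exact (pe_comp_7 h2 c h).mono (by norm_num)
    by_cases h42 : e = 4 ∧ Nat.card F = 2
    · obtain ⟨rfl, h2⟩ := h42
      rcases Nat.lt_or_ge 4 n with h4 | h4
      · refine (pe_comp (p := p) (m := 4) (w := 5) (by norm_num) (fun M _ => ?_) h4 c h).mono (by norm_num)
        refine pw_SL_succ (k := 4) hp (by norm_num) hde hmin (by norm_num) ?_ M
        rw [h2]; norm_num
      · obtain rfl : n = 4 := by omega
        have := pw_SL_of_bound (F := F) (m := 7) hp (by norm_num) hde hmin (by norm_num) (minDeg_SL (by norm_num)) (by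
          rw [h2]; norm_num)
        exact (this _).mono (by norm_num)
    · exact pe_comp (p := p) (m := 5) (w := e) (by omega) (fun M _ => pw_SL_of_order hp he hde hmin ⟨h32, h42⟩ M) hen c h
  · have hd2 : p ∣ Nat.card F ^ 2 - 1 := by
      rcases (by omega : e = 1 ∨ e = 2) with rfl | rfl
      · refine hde.trans ?_
        simpa only [_root_.pow_one, _root_.one_pow] using Nat.sub_dvd_pow_sub_pow (Nat.card F) 1 2
      · exact hde
    rcases Nat.lt_or_ge (Nat.card F) 4 with h4 | h4
    · rcases (by omega : Nat.card F = 2 ∨ Nat.card F = 3) with h2 | h3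
      · have h3 : p = 3 := by
          rw [h2] at hd2
          exact (Nat.prime_dvd_prime_iff_eq hp (by norm_num)).1 (by simpa using hd2)
        subst h3
        refine (pe_comp (p := 3) (m := 3) (w := 3) (by norm_num) (fun M _ => ?_) hn c h).mono (by norm_num)
        refine pw_SL_succ (k := 2) hp (by norm_num) hd2 (fun i hi hi2 => ?_) (by norm_num) ?_ M
        · obtain rfl : i = 1 := by omega
          rw [h2]; norm_num
        · rw [h2]; norm_num
      · have h2 : p = 2 := by
          rw [h3] at hd2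
          have h8 : p ∣ 2 ^ 3 := by simpa using hd2
          exact (Nat.prime_dvd_prime_iff_eq hp (by norm_num)).1 (hp.dvd_of_dvd_pow h8)
        subst h2
        exact (pe_comp (p := 2) (m := 4) (w := 3) (by norm_num) (fun M _ => pw_SL33 h3 M) hn c h).mono (by norm_num)
    · exact (pe_comp (p := p) (m := 3) le_rfl (fun M hM => pe_three_of_nonscalar hp (Or.inr ⟨hd2, h4⟩) M hM.ns)
        (by omega) c h).mono (by norm_num)

/-- **RESULT W**, Singer elements. -/
theorem pe_sing [Finite F] {p n : ℕ} (hp : p.Prime) (hn : 3 ≤ n)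
    (hd : p ∣ Nat.card (_root_.Matrix.SpecialLinearGroup (Fin n) F)) {K : Type*} [Field K] [Algebra F K]
    (b : Module.Basis (Fin n) F K) (z : K) (h : Algebra.norm F z = 1) (hz : Algebra.adjoin F {z} = ⊤) :
    PE p 10 (sing b z h) :=
  pe_sing_of_comp (fun c h => pe_compSL hp hn hd c h) b z h hz

end Cfsg.Agent.H514.DP

private theorem dce_5e15bff9d38d : _root_.True := by
  try have : _root_.True := by simp only [_root_.Cfsg.Agent.H514.DP.C7.eq_1]
  exact _root_.True.intro
end
end
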